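import Cfsg.Agent.H8.ZStar

/-!
# The principal block class-sum trick
-/

set_option autoImplicit false

namespace Cfsg.Agent.SDP

open Cfsg.Agent.H8

/-- If `G` is the normal closure of `z`, `t` is an involution and every product `w * t` with `w`
conjugate to `z` is conjugate to `t * v` for some `v ∈ O(C(t))`, we get a contradiction. -/
theorem b0_trick' {G : Type*} [Group G] [Finite G] (t z : G) (ht : orderOf t = 2)
    (hz : Subgroup.normalClosure ({z} : Set G) = ⊤)
    (h : ∀ w : G, IsConj z w → ∃ v ∈ centralizerPPrimeCore 2 t, IsConj (w * t) (t * v)) :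
    False := by
  classical
  obtain ⟨M, hM⟩ := H88.exists_isPModular Nat.prime_two
  have := hM.2.1
  have h1 : ∀ χ ∈ principalBlock M G, ∀ w : G, IsConj z w →
      (χ : G → ℂ) (w * t) = (χ : G → ℂ) t := by
    intro χ hχ w hw
    obtain ⟨v, hv, hc⟩ := h w hw
    rw [H5.isClassFunction_apply_of_isConj (H5.isClassFunction_of_isIrr χ.2) hc,
      S0942.result 2 M hM t ⟨1, by rw [ht, pow_one]⟩ v hv χ hχ]
  have key : ∀ χ ∈ principalBlock M G,
      (χ : G → ℂ) z * (χ : G → ℂ) t = (χ : G → ℂ) 1 * (χ : G → ℂ) t := by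
    intro χ hχ
    rw [S0943.result χ z t fun x y hx hy => ?_, h1 χ hχ z (IsConj.refl z)]
    obtain ⟨g, rfl⟩ := isConj_iff.mp hy
    have e : IsConj (g⁻¹ * x * g⁻¹⁻¹ * t) (x * (g * t * g⁻¹)) :=
      isConj_iff.mpr ⟨g, by group⟩
    rw [← H5.isClassFunction_apply_of_isConj (H5.isClassFunction_of_isIrr χ.2) e,
      h1 χ hχ _ (hx.trans (isConj_iff.mpr ⟨g⁻¹, rfl⟩)), h1 χ hχ z (IsConj.refl z)]
  have hB := H33.isPBlock_principalBlock (M := M) (G := G)
  have hp : IsPPart 2 t t := H33.isPPart_self Nat.prime_two ⟨1, by rw [ht, pow_one]⟩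
  have o1 := H33.block_orthogonality hM hB hp
    (H33.isPPart_one_of_regular (y := (1 : G)) (by simp))
    (fun h => ne_one_of_orderOf_two ht (isConj_one_left.mp h))
  rw [H33.finsum_mem_irr, inv_one, Finset.sum_eq_single (H33.oneIrr G)] at o1
  · norm_num [H33.oneIrr_apply] at o1
  · intro χ hχ hne
    have hχ' := (Finset.mem_filter.mp hχ).2
    have k3 : (χ : G → ℂ) t * (χ : G → ℂ) 1 * ((χ : G → ℂ) z - (χ : G → ℂ) 1) = 0 := by
      linear_combination ((χ : G → ℂ) 1) * key χ hχ'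
    refine (mul_eq_zero.mp k3).resolve_right fun h => hne ?_
    have h1 : z ∈ H5.charKer (H5.isCharacter_of_isIrr χ.2) := sub_eq_zero.mp h
    have h2 : H5.charKer (H5.isCharacter_of_isIrr χ.2) = ⊤ := by
      rw [eq_top_iff, ← hz]
      exact Subgroup.normalClosure_le_normal (Set.singleton_subset_iff.mpr h1)
    exact Subtype.ext (H5.eq_one_of_forall_eq_degree χ.2 fun g =>
      (H5.mem_charKer _).mp (h2 ▸ Subgroup.mem_top g))
  · intro h
    exact absurd (Finset.mem_filter.mpr ⟨Finset.mem_univ _, H33.oneIrr_mem_principalBlock⟩) h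

theorem b0_trick {G : Type*} [Group G] [Finite G] (t z : G) (ht : orderOf t = 2)
    (hz : Subgroup.normalClosure ({z} : Set G) = ⊤)
    (h : ∀ g : G, ∃ v ∈ centralizerPPrimeCore 2 t, IsConj (g * z * g⁻¹ * t) (t * v)) :
    False :=
  b0_trick' t z ht hz fun w hw => by
    obtain ⟨g, rfl⟩ := isConj_iff.mp hw
    exact h g

/-- Membership in `O(C(t))` through a normal subgroup of odd order of `C(t)`. -/
theorem mem_cpc {G : Type*} [Group G] [Finite G] {t v : G} (R : Subgroup G)
    (hR : R ≤ Subgroup.centralizer ({t} : Set G))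
    (hn : ∀ g : G, g * t = t * g → ∀ r ∈ R, g * r * g⁻¹ ∈ R) (ho : Odd (Nat.card R))
    (hv : v ∈ R) : v ∈ centralizerPPrimeCore 2 t := by
  set C := Subgroup.centralizer ({t} : Set G) with hC
  have hN : (R.subgroupOf C).Normal := ⟨fun r hr g => by
    rw [Subgroup.mem_subgroupOf] at hr ⊢
    exact hn g (Subgroup.mem_centralizer_singleton_iff.mp g.2) r hr⟩
  have hc : Nat.card (R.subgroupOf C) = Nat.card R :=
    Nat.card_congr (Subgroup.subgroupOfEquivOfLe hR).toEquiv
  refine ⟨⟨v, hR hv⟩, ?_, rfl⟩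
  have hle : R.subgroupOf C ≤ pPrimeCore 2 C := by
    exact le_pPrimeCore_two hN (hc ▸ ho)
  exact hle hv

end Cfsg.Agent.SDP
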